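import Groth.Agent.InjCokerStage.Stalk

/-!
# Injectivity on a stalk descends to a stage when the kernel commutes with base change
-/

set_option autoImplicit false
set_option backward.isDefEq.respectTransparency false
set_option backward.defeqAttrib.useBackward true
set_option linter.style.haveILetI false

universe u

open CategoryTheory CategoryTheory.Limits AlgebraicGeometry TopologicalSpace Opposite
open Groth.Agent.PullbackMod
open scoped TensorProduct

noncomputable section

namespace Groth.Agent.InjCokerStage

theorem injective_iff_mapAt {X X' : Scheme.{u}} {M N : X.Modules} (u : M ⟶ N) (g : X' ⟶ X)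
    (x' : X') {x : X} (h : g x' = x) :
    letI := (mapAt g x' h).hom.toAlgebra
    Function.Injective (stalkLin ((Scheme.Modules.pullback g).map u) x') ↔
      Function.Injective ((stalkLin u x).lTensor (X'.presheaf.stalk x')) := by
  subst h
  rw [mapAt_self]
  exact injective_stalk_pullback_iff g u x'

variable {I : Type u} [SmallCategory I] [IsCofiltered I] (D : I ⥤ Scheme.{u}) (c : Cone D)
  (hc : IsLimit c) [hD : ∀ {i j : I} (f : i ⟶ j), IsAffineHom (D.map f)] (i₀ : I) (x : c.pt)

include hc in
/-- Injectivity at the limit point holds at the image point of some stage. -/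
theorem exists_stage_injective_stalk {M N : (D.obj i₀).Modules} (u : M ⟶ N)
    (hfg : (LinearMap.ker (stalkLin u (c.π.app i₀ x))).FG)
    (hker : ∀ j : Over i₀,
      letI := (mapAt (D.map j.hom) (c.π.app j.left x) (PullbackMod.π_apply D c x j.hom)).hom.toAlgebra
      LinearMap.ker ((stalkLin u (c.π.app i₀ x)).lTensor ((D.obj j.left).presheaf.stalk (c.π.app j.left x))) ≤
        LinearMap.range ((LinearMap.ker (stalkLin u (c.π.app i₀ x))).subtype.lTensor
          ((D.obj j.left).presheaf.stalk (c.π.app j.left x))))
    (h : Function.Injective (stalkLin ((Scheme.Modules.pullback (c.π.app i₀)).map u) x)) :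
    ∃ j : Over i₀, Function.Injective
      (stalkLin ((Scheme.Modules.pullback (D.map j.hom)).map u) (c.π.app j.left x)) := by
  letI : Algebra ((D.obj i₀).presheaf.stalk (c.π.app i₀ x)) (c.pt.presheaf.stalk x) :=
    ((c.π.app i₀).stalkMap x).hom.toAlgebra
  letI alg : ∀ j : Over i₀, Algebra ((D.obj i₀).presheaf.stalk (c.π.app i₀ x))
      ((D.obj j.left).presheaf.stalk (c.π.app j.left x)) := fun j =>
    (mapAt (D.map j.hom) (c.π.app j.left x) (PullbackMod.π_apply D c x j.hom)).hom.toAlgebra
  let S : PullbackMod.AlgSystem ((D.obj i₀).presheaf.stalk (c.π.app i₀ x)) (c.pt.presheaf.stalk x) :=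
    { J := Over i₀
      R := fun j => (D.obj j.left).presheaf.stalk (c.π.app j.left x)
      alg := alg
      ρ := fun j =>
        { toRingHom := (mapAt (c.π.app j.left) x rfl).hom
          commutes' := fun a => by
            show mapAt (c.π.app j.left) x rfl (mapAt (D.map j.hom) _ _ a) = (c.π.app i₀).stalkMap x a
            exact (mapAt_mapAt (D.map j.hom) (c.π.app j.left) (c.π.app i₀) (c.w j.hom) x rfl
              (PullbackMod.π_apply D c x j.hom) rfl a).trans (congr($(mapAt_self (c.π.app i₀) x) a)) }
      Hom := fun j k => k ⟶ j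
      τ := fun {j k} f =>
        { toRingHom := (mapAt (D.map f.left) (c.π.app k.left x) (PullbackMod.π_apply D c x f.left)).hom
          commutes' := fun a => by
            show mapAt (D.map f.left) _ _ (mapAt (D.map j.hom) _ _ a) = mapAt (D.map k.hom) _ _ a
            exact mapAt_mapAt _ _ _ (by rw [← D.map_comp, Over.w]) _ _ _ _ a }
      comm := fun {j k} f => AlgHom.ext fun a =>
        mapAt_mapAt (D.map f.left) (c.π.app k.left) (c.π.app j.left) (c.w f.left) x rfl
          (PullbackMod.π_apply D c x f.left) rfl a
      comp := fun {j k l} f g => ⟨g ≫ f, AlgHom.ext fun a => by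
        show mapAt (D.map (g ≫ f).left) (c.π.app l.left x) (PullbackMod.π_apply D c x (g ≫ f).left) a =
          mapAt (D.map g.left) (c.π.app l.left x) (PullbackMod.π_apply D c x g.left)
            (mapAt (D.map f.left) (c.π.app k.left x) (PullbackMod.π_apply D c x f.left) a)
        exact (mapAt_mapAt (D.map f.left) (D.map g.left) (D.map (g ≫ f).left)
          (by rw [← D.map_comp]; rfl) _ _ _ _ a).symm⟩
      surj := fun j b => by
        obtain ⟨i, a, ha⟩ := AffLim.exists_stalkMap_eq D c hc x b
        obtain ⟨l, p, q, -⟩ := IsCofilteredOrEmpty.cone_objs j.left i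
        refine ⟨Over.mk (p ≫ j.hom), Over.homMk p rfl,
          mapAt (D.map q) (c.π.app l x) (PullbackMod.π_apply D c x q) a, ?_⟩
        show mapAt (c.π.app l) x rfl (mapAt (D.map q) _ _ a) = b
        exact ((mapAt_mapAt (D.map q) (c.π.app l) (c.π.app i) (c.w q) x rfl (PullbackMod.π_apply D c x q) rfl
          a).trans (congr($(mapAt_self (c.π.app i) x) a))).trans ha
      inj := fun j a ha => by
        obtain ⟨U, hxU, t, rfl⟩ := TopCat.Presheaf.exists_germ_eq (D.obj j.left).presheaf a
        obtain ⟨k, φ, W, e, hxW, hW⟩ := AffLim.exists_appLE_eq_zero D c hc x hxU t (by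
          exact (mapAt_germ (c.π.app j.left) x rfl hxU t).symm.trans ha)
        refine ⟨Over.mk (φ ≫ j.hom), Over.homMk φ rfl, ?_⟩
        show mapAt (D.map φ) (c.π.app k x) (PullbackMod.π_apply D c x φ) ((D.obj j.left).presheaf.germ U _ hxU t) = 0
        rw [mapAt_germ, ← (D.obj k).presheaf.germ_res_apply (homOfLE e) _ hxW]
        exact (congrArg ((D.obj k).presheaf.germ W (c.π.app k x) hxW) hW).trans (map_zero _) }
  obtain ⟨k, -, hk⟩ := InjCokerStage.exists_stage_injective S (stalkLin u (c.π.app i₀ x)) hfg
    (Over.mk (𝟙 i₀)) (fun k => hker k) ((injective_stalk_pullback_iff _ u x).mp h)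
  exact ⟨k, (injective_iff_mapAt u _ _ _).mpr hk⟩

end Groth.Agent.InjCokerStage

end
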